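import Mathlib

/-! Complements stable under the commutant of a finite group. -/

set_option autoImplicit false

universe u v w

namespace Groth.GLRep

open scoped MonoidAlgebra

variable {k : Type u} [Field k] [CharZero k] {G : Type w} [Group G] [Finite G]
  {M : Type v} [AddCommGroup M] [Module k M] [Module.Finite k M] (ρ : Representation k G M)

/-- Stability under every endomorphism commuting with `ρ`. -/
def Stable (W : Submodule k M) : Prop :=
  ∀ f : Module.End k M, (∀ g x, f (ρ g x) = ρ g (f x)) → ∀ x ∈ W, f x ∈ W

theorem exists_isCompl_stable (W : Submodule k M) (hW : Stable ρ W) :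
    ∃ W' : Submodule k M, Stable ρ W' ∧ IsCompl W W' := by
  classical
  have : NeZero (Nat.card G : k) := ⟨by simp [Nat.card_pos.ne']⟩
  have : Module.Finite k[G] ρ.asModule := Module.Finite.of_restrictScalars_finite k _ _
  have hss : IsSemisimpleModule k[G] ρ.asModule := inferInstance
  have : IsSemisimpleRing (Module.End k[G] ρ.asModule) := IsSemisimpleRing.moduleEnd _ _
  let e := ρ.asModuleEquiv
  have hend : ∀ r : Module.End k[G] ρ.asModule, ∀ x : ρ.asModule, e x ∈ W → e (r x) ∈ W := by
    intro r x hx
    have := hW (e.toLinearMap ∘ₗ r.restrictScalars k ∘ₗ e.symm.toLinearMap) (fun g y => ?_) _ hx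
    · simpa using this
    · simp only [LinearMap.comp_apply, LinearEquiv.coe_coe, LinearMap.restrictScalars_apply, e]
      rw [Representation.asModuleEquiv_symm_map_rho, map_smul, Representation.asModuleEquiv_map_smul]
      simp
  let N : Submodule (Module.End k[G] ρ.asModule) ρ.asModule :=
    { carrier := {x | e x ∈ W}
      add_mem' := fun {a b} ha hb => by
        change e (a + b) ∈ W
        rw [map_add]
        exact W.add_mem ha hb
      zero_mem' := by simp
      smul_mem' := fun r x hx => hend r x hx }
  obtain ⟨N', hN'⟩ := exists_isCompl N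
  let W' : Submodule k M :=
    { carrier := {y | e.symm y ∈ N'}
      add_mem' := fun {a b} ha hb => by
        change e.symm (a + b) ∈ N'
        rw [map_add]
        exact N'.add_mem ha hb
      zero_mem' := by simp
      smul_mem' := fun c y hy => by
        change e.symm (c • y) ∈ N'
        rw [map_smul]
        exact N'.smul_mem (c • (1 : Module.End k[G] ρ.asModule)) hy }
  refine ⟨W', fun f hf y hy => ?_, ?_⟩
  · let f' : Module.End k[G] ρ.asModule :=
      MonoidAlgebra.equivariantOfLinearOfComm (e.symm.toLinearMap ∘ₗ f ∘ₗ e.toLinearMap) fun g x => by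
        simp only [LinearMap.comp_apply, LinearEquiv.coe_coe, e]
        apply ρ.asModuleEquiv.injective
        simp only [Representation.asModuleEquiv_map_smul, Representation.asAlgebraHom_single, one_smul,
          LinearEquiv.apply_symm_apply]
        exact hf g _
    have : f' (e.symm y) ∈ N' := N'.smul_mem f' hy
    change e.symm (f y) ∈ N'
    have he : f' (e.symm y) = e.symm (f y) := by simp [f', e]
    rwa [he] at this
  · constructor
    · rw [disjoint_iff, Submodule.eq_bot_iff]
      rintro y ⟨h1, h2⟩
      have : e.symm y ∈ N ⊓ N' := ⟨by simpa [N] using h1, h2⟩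
      rw [hN'.inf_eq_bot, Submodule.mem_bot] at this
      exact e.symm.map_eq_zero_iff.1 this
    · rw [codisjoint_iff, eq_top_iff]
      intro y _
      have : e.symm y ∈ N ⊔ N' := by rw [hN'.sup_eq_top]; trivial
      obtain ⟨a, ha, b, hb, hab⟩ := Submodule.mem_sup.1 this
      have hy : y = e a + e b := by rw [← map_add, hab, LinearEquiv.apply_symm_apply]
      rw [hy]
      exact Submodule.add_mem _ (Submodule.mem_sup_left ha) (Submodule.mem_sup_right (by
        change e.symm (e b) ∈ N'
        simpa using hb))

end Groth.GLRep
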