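import Mathlib
import Groth.Prelude.Def_GLin5

/-! Monomials in the matrix entries, twisted by powers of the inverse determinant. -/

set_option autoImplicit false

universe u v

noncomputable section

namespace Groth.GLRep

open CoordGrp

variable {n : ℕ} {k : Type u}

section Comm

variable [CommRing k]

/-- The monomial of two words. -/
def mon {d : ℕ} (a b : Fin d → Fin n) : GLn n k := ∏ t, GLn.X (a t) (b t)

theorem mon_perm {d : ℕ} (a b : Fin d → Fin n) (σ : Equiv.Perm (Fin d)) :
    (mon (a ∘ σ) (b ∘ σ) : GLn n k) = mon a b :=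
  Equiv.prod_comp σ (fun t => (GLn.X (a t) (b t) : GLn n k))

theorem mon_append {d e : ℕ} (a b : Fin d → Fin n) (a' b' : Fin e → Fin n) :
    (mon (Fin.append a a') (Fin.append b b') : GLn n k) = mon a b * mon a' b' := by
  simp [mon, Fin.prod_univ_add]

variable (n k) in
/-- The spanning set of the coordinate ring. -/
def monSet : Set (GLn n k) :=
  {x | ∃ (d c : ℕ) (a b : Fin d → Fin n), x = mon a b * GLn.Dinv ^ c}

theorem monSet_mul_mem {x y : GLn n k} (hx : x ∈ monSet n k) (hy : y ∈ monSet n k) :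
    x * y ∈ monSet n k := by
  obtain ⟨d, c, a, b, rfl⟩ := hx
  obtain ⟨d', c', a', b', rfl⟩ := hy
  exact ⟨d + d', c + c', Fin.append a a', Fin.append b b', by rw [mon_append, pow_add]; ring⟩

theorem span_monSet : Submodule.span k (monSet n k) = ⊤ := by
  let S : Submonoid (GLn n k) :=
    { carrier := monSet n k
      mul_mem' := monSet_mul_mem
      one_mem' := ⟨0, 0, Fin.elim0, Fin.elim0, by simp [mon]⟩ }
  have hX : ∀ i j, (GLn.X i j : GLn n k) ∈ monSet n k := fun i j =>
    ⟨1, 0, fun _ => i, fun _ => j, by simp [mon]⟩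
  have hD : (GLn.Dinv : GLn n k) ∈ monSet n k := ⟨0, 1, Fin.elim0, Fin.elim0, by simp [mon]⟩
  rw [eq_top_iff]
  rintro x -
  obtain ⟨p, rfl⟩ := (Ideal.Quotient.mkₐ_surjective k (GLb.relIdeal n k)) x
  let f : MvPolynomial (GLPoly.Idx n) k →ₐ[k] GLn n k := GLn.mk n k
  change f p ∈ _
  induction (p : MvPolynomial (GLPoly.Idx n) k) using MvPolynomial.induction_on' with
  | monomial s c =>
    rw [MvPolynomial.monomial_eq, map_mul, ← MvPolynomial.algebraMap_eq, AlgHom.commutes, ← Algebra.smul_def]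
    refine Submodule.smul_mem _ _ (Submodule.subset_span ?_)
    change f (s.prod fun i e => MvPolynomial.X i ^ e) ∈ S
    rw [Finsupp.prod, map_prod f]
    refine prod_mem fun i _ => ?_
    rw [map_pow]
    refine pow_mem ?_ _
    rcases i with ⟨i, j⟩ | ⟨⟩
    exacts [hX i j, hD]
  | add p q hp hq => rw [map_add f]; exact Submodule.add_mem _ hp hq

theorem counit_mon {d : ℕ} (a b : Fin d → Fin n) :
    CoalgebraStruct.counit (R := k) (mon a b : GLn n k) = if a = b then 1 else 0 := by
  change Bialgebra.counitAlgHom k (GLn n k) (∏ t, GLn.X (a t) (b t)) = _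
  rw [map_prod]
  simp only [Bialgebra.counitAlgHom_apply, GLn.counit_X]
  rw [Fintype.prod_boole]
  simp [funext_iff]

theorem det_eq_sum_mon : (GLn.det : GLn n k) =
    ∑ σ : Equiv.Perm (Fin n), ((Equiv.Perm.sign σ : ℤ) : k) • mon (σ : Fin n → Fin n) id := by
  rw [GLn.det_eq, Matrix.det_apply']
  refine Finset.sum_congr rfl fun σ _ => ?_
  rw [Algebra.smul_def, map_intCast]
  rfl

end Comm

section Field

variable [Field k]

theorem det_ne_zero : (Mat.det n k) ≠ 0 := by
  intro h
  have := congrArg (CoalgebraStruct.counit (R := k) (A := Mat n k)) h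
  rw [Mat.counit_det, map_zero] at this
  exact one_ne_zero this

theorem toGLn_injective : Function.Injective (Mat.toGLn n k) := by
  let Fr := FractionRing (Mat n k)
  let f : Mat n k →ₐ[k] Fr := IsScalarTower.toAlgHom k (Mat n k) Fr
  have hdet : (f.mapMatrix (Mat.genMat n k)).det * (f (Mat.det n k))⁻¹ = 1 := by
    rw [← AlgHom.map_det]
    exact mul_inv_cancel₀ ((map_ne_zero_iff f (IsFractionRing.injective _ _)).2 det_ne_zero)
  have h : ((GLn.pt n k _ _ hdet).comp (Mat.toGLn n k : Mat n k →ₐ[k] GLn n k)) = f := by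
    apply Mat.algHom_ext
    intro i j
    change GLn.pt n k _ _ hdet (Mat.toGLn n k (Mat.X i j)) = _
    rw [Mat.toGLn_X, GLn.pt_X]
    rfl
  intro x y e
  refine IsFractionRing.injective (Mat n k) Fr ?_
  change f x = f y
  rw [← h]
  exact congrArg (GLn.pt n k _ _ hdet) e

theorem isUnit_Dinv : IsUnit (GLn.Dinv : GLn n k) :=
  IsUnit.of_mul_eq_one GLn.det GLn.Dinv_mul_det

/-- The exponent of a pair of words. -/
def expo {d : ℕ} (a b : Fin d → Fin n) : (Fin n × Fin n) →₀ ℕ :=
  ∑ t, Finsupp.single (a t, b t) 1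

theorem toGLn_monomial {d : ℕ} (a b : Fin d → Fin n) :
    Mat.toGLn n k ((MvPolynomial.monomial (expo a b) 1 : MvPolynomial (Fin n × Fin n) k) : Mat n k) =
      mon a b := by
  have : ((MvPolynomial.monomial (expo a b) 1 : MvPolynomial (Fin n × Fin n) k) : Mat n k) =
      ∏ t, Mat.X (a t) (b t) := by
    rw [expo, MvPolynomial.monomial_sum_one]
    rfl
  rw [this, map_prod]
  simp [mon]

theorem expo_eq {d : ℕ} {a b a' b' : Fin d → Fin n} (h : expo a b = expo a' b') :
    ∃ σ : Equiv.Perm (Fin d), a' = a ∘ σ ∧ b' = b ∘ σ := by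
  classical
  have hc : ∀ p : Fin n × Fin n,
      Fintype.card {t // (a' t, b' t) = p} = Fintype.card {t // (a t, b t) = p} := fun p => by
    have := DFunLike.congr_fun h p
    simp only [expo, Finsupp.finsetSum_apply, Finsupp.single_apply] at this
    rw [Fintype.card_subtype, Fintype.card_subtype, Finset.card_filter, Finset.card_filter]
    exact this.symm
  let σ : Equiv.Perm (Fin d) := Equiv.ofFiberEquiv fun p => Fintype.equivOfCardEq (hc p)
  have hσ : ∀ t, (a (σ t), b (σ t)) = (a' t, b' t) :=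
    Equiv.ofFiberEquiv_map (f := fun t => (a' t, b' t)) (g := fun t => (a t, b t)) _
  exact ⟨σ, funext fun t => (congrArg Prod.fst (hσ t)).symm, funext fun t => (congrArg Prod.snd (hσ t)).symm⟩

/-- Every symmetric array is the value of a functional on monomials of given degree and twist. -/
theorem exists_functional (d c : ℕ) (M : (Fin d → Fin n) → (Fin d → Fin n) → k)
    (hM : ∀ a b (σ : Equiv.Perm (Fin d)), M (a ∘ σ) (b ∘ σ) = M a b) :
    ∃ φ : GLn n k →ₗ[k] k, ∀ a b : Fin d → Fin n, φ (mon a b * GLn.Dinv ^ c) = M a b := by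
  classical
  let ι : Mat n k →ₗ[k] GLn n k :=
    LinearMap.mulRight k (GLn.Dinv ^ c) ∘ₗ (Mat.toGLn n k : Mat n k →ₗ[k] GLn n k)
  have hι : LinearMap.ker ι = ⊥ := LinearMap.ker_eq_bot.2 fun x y e =>
    toGLn_injective ((isUnit_Dinv.pow c).mul_left_injective e)
  obtain ⟨π, hπ⟩ := LinearMap.exists_leftInverse_of_injective ι hι
  let val : ((Fin n × Fin n) →₀ ℕ) → k := fun s =>
    if h : ∃ ab : (Fin d → Fin n) × (Fin d → Fin n), expo ab.1 ab.2 = s then M h.choose.1 h.choose.2
    else 0
  let ψ : Mat n k →ₗ[k] k := ((MvPolynomial.basisMonomials (Fin n × Fin n) k).constr k val)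
  refine ⟨ψ ∘ₗ π, fun a b => ?_⟩
  let x : Mat n k := (MvPolynomial.monomial (expo a b) 1 : MvPolynomial (Fin n × Fin n) k)
  have hx : ι x = mon a b * GLn.Dinv ^ c := by
    simp [ι, x, toGLn_monomial]
  rw [← hx, LinearMap.comp_apply]
  have e1 : π (ι x) = x := LinearMap.congr_fun hπ x
  rw [e1]
  have e2 : ψ x = val (expo a b) :=
    (MvPolynomial.basisMonomials (Fin n × Fin n) k).constr_basis k val (expo a b)
  rw [e2]
  have h : ∃ ab : (Fin d → Fin n) × (Fin d → Fin n), expo ab.1 ab.2 = expo a b := ⟨(a, b), rfl⟩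
  simp only [val, dif_pos h]
  obtain ⟨σ, ha, hb⟩ := expo_eq h.choose_spec.symm
  rw [ha, hb, hM]

end Field

end Groth.GLRep
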