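import Mathlib
import Groth.Prelude.Def_ComodTens
import Groth.Prelude.Def_GLin5
import Groth.Agent.Hopf.Coeff
import Groth.Agent.GLRep.Centralizer
import Groth.Agent.GLRep.Monomial

/-! Twisted tensor powers of the standard comodule of the general linear group. -/

set_option autoImplicit false

universe u v

noncomputable section

open TensorProduct

namespace Groth.GLRep

open CoordGrp

variable (n : ℕ) (k : Type u) [CommRing k]

/-- The standard comodule of the general linear group. -/
@[reducible] def stdG : HopfRep.Comod k (GLn n k) (Fin n → k) :=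
  GLin.comodAlong (Mat.toGLn n k) (ComodTens.stdVec n k)

/-- The standard basis of a tensor power. -/
def tbasis (d : ℕ) : Module.Basis (Fin d → Fin n) k (TensorPower k d (Fin n → k)) :=
  Basis.piTensorProduct fun _ : Fin d => Pi.basisFun k (Fin n)

theorem tbasis_apply {d : ℕ} (b : Fin d → Fin n) :
    tbasis n k d b = PiTensorProduct.tprod k (fun t => (Pi.basisFun k (Fin n)) (b t)) :=
  Basis.piTensorProduct_apply _ b

theorem tbasis_append {d e : ℕ} (a : Fin d → Fin n) (b : Fin e → Fin n) :
    TensorPower.mulEquiv (tbasis n k d a ⊗ₜ[k] tbasis n k e b) = tbasis n k (d + e) (Fin.append a b) := by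
  rw [← TensorPower.gMul_def, tbasis_apply, tbasis_apply, tbasis_apply, TensorPower.tprod_mul_tprod]
  congr 1
  ext i : 1
  induction i using Fin.addCases <;> simp

theorem tpowOne_coact (b : Fin 1 → Fin n) :
    (ComodTens.Comod.tpowOne (stdG n k)).coact (tbasis n k 1 b) =
      ∑ a : Fin 1 → Fin n, tbasis n k 1 a ⊗ₜ[k] (mon a b : GLn n k) := by
  have e : ∀ i, (PiTensorProduct.subsingletonEquiv (R := k) (s := fun _ : Fin 1 => Fin n → k) 0).symm
      (Pi.basisFun k (Fin n) i) = tbasis n k 1 (fun _ => i) := fun i => by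
    rw [LinearEquiv.symm_apply_eq, tbasis_apply, PiTensorProduct.subsingletonEquiv_apply_tprod]
  have hb : tbasis n k 1 b = tbasis n k 1 (fun _ => b 0) := by
    congr 1
    ext t : 1
    rw [Subsingleton.elim t 0]
  rw [hb, ← e, ComodTens.ofEquiv_coact_apply]
  change (LinearEquiv.toLinearMap _).rTensor _ (TensorProduct.map LinearMap.id
    (Mat.toGLn n k : Mat n k →ₗ[k] GLn n k) ((ComodTens.stdVec n k).coact _)) = _
  rw [ComodTens.stdVec_coact_basisFun]
  simp only [map_sum, TensorProduct.map_tmul, LinearMap.id_apply, LinearMap.rTensor_tmul,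
    LinearEquiv.coe_coe, e]
  refine Fintype.sum_equiv (Equiv.funUnique (Fin 1) (Fin n)).symm _ _ fun j => ?_
  simp [mon]
  congr 1

theorem tpow_coact (d : ℕ) (b : Fin d → Fin n) :
    (ComodTens.Comod.tpow (stdG n k) d).coact (tbasis n k d b) =
      ∑ a : Fin d → Fin n, tbasis n k d a ⊗ₜ[k] (mon a b : GLn n k) := by
  induction d with
  | zero =>
    have e : (PiTensorProduct.isEmptyEquiv (Fin 0) (R := k) (s := fun _ : Fin 0 => Fin n → k)).symm 1 =
        tbasis n k 0 b := by
      rw [LinearEquiv.symm_apply_eq, tbasis_apply, PiTensorProduct.isEmptyEquiv_apply_tprod]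
    rw [← e, ComodTens.ofEquiv_coact_apply, Fintype.sum_unique]
    change (LinearEquiv.toLinearMap _).rTensor _ ((1 : k) ⊗ₜ[k] (1 : GLn n k)) = _
    rw [LinearMap.rTensor_tmul, LinearEquiv.coe_coe, e, Subsingleton.elim (default : Fin 0 → Fin n) b]
    simp [mon]
  | succ d ih =>
    obtain ⟨⟨b₀, b₁⟩, rfl⟩ := (Fin.appendEquiv d 1).surjective b
    change (ComodTens.Comod.tpow (stdG n k) (d + 1)).coact (tbasis n k (d + 1) (Fin.append b₀ b₁)) = _
    rw [← tbasis_append, ComodTens.ofEquiv_coact_apply,
      ComodTens.tensor_coact_tmul_of_sum _ _ Finset.univ Finset.univ _ _ _ _ _ _ (ih b₀) (tpowOne_coact n k b₁)]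
    rw [← Fintype.sum_prod_type', map_sum]
    refine Fintype.sum_equiv (Fin.appendEquiv d 1) _ _ fun p => ?_
    rw [LinearMap.rTensor_tmul, LinearEquiv.coe_coe, tbasis_append]
    change _ = tbasis n k (d + 1) (Fin.append p.1 p.2) ⊗ₜ[k] mon (Fin.append p.1 p.2) (Fin.append b₀ b₁)
    rw [mon_append]

/-- A tensor power twisted by a power of the inverse determinant. -/
def T (n : ℕ) (k : Type u) [CommRing k] (_d _c : ℕ) : Type u := TensorPower k _d (Fin n → k)

instance (d c : ℕ) : AddCommGroup (T n k d c) := inferInstanceAs (AddCommGroup (TensorPower k d (Fin n → k)))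
instance (d c : ℕ) : Module k (T n k d c) := inferInstanceAs (Module k (TensorPower k d (Fin n → k)))
instance instComodT (d c : ℕ) : HopfRep.Comod k (GLn n k) (T n k d c) :=
  ComodTens.Comod.twist (V := TensorPower k d (Fin n → k)) (ComodTens.Comod.tpow (stdG n k) d)
    ((GLn.Dinv : GLn n k) ^ c) (IsGroupLikeElem.pow ⟨GLn.counit_Dinv, GLn.comul_Dinv⟩)

/-- The basis of a twisted tensor power. -/
def basisT (d c : ℕ) : Module.Basis (Fin d → Fin n) k (T n k d c) := tbasis n k d

instance (d c : ℕ) : Module.Finite k (T n k d c) := Module.Finite.of_basis (basisT n k d c)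

theorem coact_basisT {d c : ℕ} (b : Fin d → Fin n) :
    HopfRep.Comod.coact (k := k) (A := GLn n k) (basisT n k d c b) =
      ∑ a : Fin d → Fin n, basisT n k d c a ⊗ₜ[k] (mon a b * GLn.Dinv ^ c) := by
  change (LinearMap.mulRight k ((GLn.Dinv : GLn n k) ^ c)).lTensor (TensorPower k d (Fin n → k))
    ((ComodTens.Comod.tpow (stdG n k) d).coact (tbasis n k d b)) = _
  rw [tpow_coact, map_sum]
  rfl

theorem op_basisT {d c : ℕ} (φ : GLn n k →ₗ[k] k) (b : Fin d → Fin n) :
    ComodLib.op φ (basisT n k d c b) = ∑ a, φ (mon a b * GLn.Dinv ^ c) • basisT n k d c a := by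
  rw [ComodLib.op_apply, coact_basisT, map_sum]
  simp

/-- The action of permutations of the factors. -/
def perm (d c : ℕ) : Representation k (Equiv.Perm (Fin d)) (T n k d c) where
  toFun σ := (basisT n k d c).constr k fun b => basisT n k d c (b ∘ σ.symm)
  map_one' := (basisT n k d c).ext fun b => by rw [Module.Basis.constr_basis]; rfl
  map_mul' σ τ := (basisT n k d c).ext fun b => by
    rw [Module.End.mul_apply, Module.Basis.constr_basis, Module.Basis.constr_basis, Module.Basis.constr_basis]
    rfl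

theorem perm_basisT {d c : ℕ} (σ : Equiv.Perm (Fin d)) (b : Fin d → Fin n) :
    perm n k d c σ (basisT n k d c b) = basisT n k d c (b ∘ σ.symm) :=
  (basisT n k d c).constr_basis k _ b

theorem op_perm {d c : ℕ} (φ : GLn n k →ₗ[k] k) (σ : Equiv.Perm (Fin d)) (x : T n k d c) :
    ComodLib.op φ (perm n k d c σ x) = perm n k d c σ (ComodLib.op φ x) := by
  refine LinearMap.congr_fun ((basisT n k d c).ext (f₁ := ComodLib.op φ ∘ₗ perm n k d c σ)
    (f₂ := perm n k d c σ ∘ₗ ComodLib.op φ) fun b => ?_) x
  rw [LinearMap.comp_apply, LinearMap.comp_apply, perm_basisT, op_basisT, op_basisT, map_sum]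
  refine (Fintype.sum_equiv (Equiv.arrowCongr σ (Equiv.refl (Fin n))) _ _ fun a => ?_).symm
  rw [map_smul, perm_basisT]
  change φ (mon a b * _) • _ = φ (mon (a ∘ σ.symm) (b ∘ σ.symm) * _) • basisT n k d c (a ∘ σ.symm)
  rw [mon_perm]

end Groth.GLRep

namespace Groth.GLRep

open CoordGrp

variable {n : ℕ} {k : Type u} [Field k] [CharZero k]

omit [CharZero k] in
theorem cf_basisT {d c : ℕ} (a b : Fin d → Fin n) :
    ComodLib.cf (A := GLn n k) ((basisT n k d c).coord a) (basisT n k d c b) = mon a b * GLn.Dinv ^ c := by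
  rw [ComodLib.cf_apply, coact_basisT, map_sum, Finset.sum_eq_single a]
  · simp [ComodLib.lslice]
  · intro x _ hx
    simp [ComodLib.lslice, hx]
  · simp

omit [CharZero k] in
theorem exists_op_eq {d c : ℕ} (f : Module.End k (T n k d c))
    (hf : ∀ σ x, f (perm n k d c σ x) = perm n k d c σ (f x)) :
    ∃ φ : GLn n k →ₗ[k] k, ComodLib.op φ = f := by
  classical
  obtain ⟨φ, hφ⟩ := exists_functional d c
    (fun a b => (basisT n k d c).repr (f (basisT n k d c b)) a) fun a b σ => by
      have h := hf σ.symm (basisT n k d c b)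
      rw [perm_basisT] at h
      simp only [Equiv.symm_symm] at h
      rw [h]
      generalize f (basisT n k d c b) = x
      refine LinearMap.congr_fun ((basisT n k d c).ext
        (f₁ := (basisT n k d c).coord (a ∘ σ) ∘ₗ perm n k d c σ.symm)
        (f₂ := (basisT n k d c).coord a) fun b' => ?_) x
      simp only [LinearMap.comp_apply, perm_basisT, Equiv.symm_symm, Module.Basis.coord_apply,
        Module.Basis.repr_self, Finsupp.single_apply]
      simp [σ.surjective.injective_comp_right.eq_iff]
  refine ⟨φ, (basisT n k d c).ext fun b => ?_⟩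
  rw [op_basisT]
  simp only [hφ]
  exact (basisT n k d c).sum_repr _

theorem isSemisimpleComod_T (d c : ℕ) : HopfRep.IsSemisimpleComod k (GLn n k) (T n k d c) := by
  intro W hW
  rw [ComodLib.isSubcomod_iff] at hW
  obtain ⟨W', hW', hc⟩ := exists_isCompl_stable (perm n k d c) W fun f hf x hx => by
    obtain ⟨φ, rfl⟩ := exists_op_eq f hf
    exact hW φ x hx
  exact ⟨W', (ComodLib.isSubcomod_iff W').2 fun φ x hx => hW' _ (op_perm n k φ) x hx, hc⟩

end Groth.GLRep
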