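import Mathlib
import Groth.Agent.Hopf.Regular
import Groth.Agent.GLRep.Rep

/-! The general linear group is linearly reductive in characteristic zero. -/

set_option autoImplicit false

universe u v

noncomputable section

open WithConv

namespace Groth.GLRep

open CoordGrp ComodLib

theorem toRatHom_equiv {k : Type u} [CommRing k] {A : Type u} [AddCommGroup A] [Module k A] [Coalgebra k A]
    [Module.Free k A] {V : Type v} [AddCommGroup V] [Module k V] [HopfRep.Comod k A V]
    {W : Type u} [AddCommGroup W] [Module k W] [HopfRep.Comod k A W]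
    (f : V →ₗ[k] W) (hf : Hoch.IsComodHom A f) (x : V) :
    toRatHom f hf (RatMod.equiv k A V x) = RatMod.equiv k A W (f x) := rfl

variable (n : ℕ) (k : Type u) [Field k] [CharZero k]

theorem isSemisimpleComod_regular : HopfRep.IsSemisimpleComod k (GLn n k) (GLn n k) := by
  let R := WithConv (GLn n k →ₗ[k] k)
  let ι := Σ d : ℕ, ℕ × (Fin d → Fin n)
  let g : (i : ι) → RatMod k (GLn n k) (T n k i.1 i.2.1) →ₗ[R] RatMod k (GLn n k) (GLn n k) := fun i =>
    toRatHom _ (isComodHom_cf (A := GLn n k) ((basisT n k i.1 i.2.1).coord i.2.2))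
  have hss : ∀ i, IsSemisimpleModule R (LinearMap.range (g i)) := fun i => by
    have := isSemisimpleComod_iff.1 (isSemisimpleComod_T (n := n) (k := k) i.1 i.2.1)
    exact IsSemisimpleModule.range (g i)
  have htop : ⨆ i, LinearMap.range (g i) = ⊤ := by
    let N := ⨆ i, LinearMap.range (g i)
    let N' : Submodule k (GLn n k) :=
      (N.restrictScalars k).comap (RatMod.equiv k (GLn n k) (GLn n k)).toLinearMap
    have h : Submodule.span k (monSet n k) ≤ N' := by
      rw [Submodule.span_le]
      rintro _ ⟨d, c, a, b, rfl⟩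
      change RatMod.equiv k (GLn n k) (GLn n k) (mon a b * GLn.Dinv ^ c) ∈ N
      refine Submodule.mem_iSup_of_mem (p := fun i => LinearMap.range (g i)) (⟨d, c, a⟩ : ι)
        ⟨RatMod.equiv k (GLn n k) (T n k d c) (basisT n k d c b), ?_⟩
      rw [← cf_basisT a b]
      exact toRatHom_equiv _ _ _
    rw [eq_top_iff]
    intro x _
    exact h (span_monSet (n := n) (k := k) ▸ Submodule.mem_top (x := (RatMod.equiv k (GLn n k) (GLn n k)).symm x))
  exact isSemisimpleComod_iff.2 (isSemisimpleModule_of_isSemisimpleModule_submodule' hss htop)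

theorem isSemisimpleComod {V : Type v} [AddCommGroup V] [Module k V] [HopfRep.Comod k (GLn n k) V] :
    HopfRep.IsSemisimpleComod k (GLn n k) V :=
  isSemisimpleComod_of_regular (isSemisimpleComod_regular n k)

end Groth.GLRep
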