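import Mathlib
import Groth.Agent.GLRep.Reductive
import Groth.Prelude.Def_Hoch

/-! Homogeneous comodules of the general linear group inside tensor powers. -/

set_option autoImplicit false

universe u v

noncomputable section

open TensorProduct LaurentPolynomial

namespace Groth.GLRep

open CoordGrp ComodLib

variable (n : ℕ) (k : Type u) [Field k]

/-- A coefficient of a Laurent polynomial. -/
def coefT (h : ℤ) : k[T;T⁻¹] →ₗ[k] k :=
  Finsupp.lapply h ∘ₗ (AddMonoidAlgebra.coeffLinearEquiv k).toLinearMap

theorem coefT_T (h m : ℤ) : coefT k h (LaurentPolynomial.T m) = if m = h then 1 else 0 :=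
  LaurentPolynomial.T_apply h m

/-- The scalar one-parameter subgroup, followed by a coefficient. -/
def scalarCoef (h : ℤ) : GLn n k →ₗ[k] k :=
  coefT k h ∘ₗ (GLn.diag n k (fun _ => 1) : GLn n k →ₗ[k] k[T;T⁻¹])

theorem diag_mon {d : ℕ} (a b : Fin d → Fin n) (c : ℕ) :
    GLn.diag n k (fun _ => 1) (mon a b * GLn.Dinv ^ c) =
      if a = b then LaurentPolynomial.T ((d : ℤ) - n * c) else 0 := by
  rw [map_mul, map_pow, GLn.diag_Dinv, LaurentPolynomial.T_pow, mon, map_prod]
  simp only [GLn.diag_X]
  by_cases hab : a = b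
  · subst hab
    rw [if_pos rfl]
    simp only [if_true, GLn.prod_T]
    rw [← LaurentPolynomial.T_add]
    congr 1
    simp
    ring
  · obtain ⟨t, ht⟩ := Function.ne_iff.1 hab
    rw [if_neg hab, Finset.prod_eq_zero (Finset.mem_univ t) (if_neg ht), zero_mul]

/-- The projection to a weight for the scalar subgroup. -/
def wtProj (h : ℤ) : GLn n k →ₗ[k] GLn n k :=
  slice (scalarCoef n k h) ∘ₗ CoalgebraStruct.comul

theorem wtProj_cf {V : Type v} [AddCommGroup V] [Module k V] [HopfRep.Comod k (GLn n k) V] (h : ℤ)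
    (ψ : V →ₗ[k] k) (x : V) :
    wtProj n k h (cf (A := GLn n k) ψ x) = cf (A := GLn n k) ψ (op (scalarCoef n k h) x) := by
  rw [wtProj, LinearMap.comp_apply, comul_cf, slice_rTensor, op_apply]

theorem wtProj_mon {d : ℕ} (a b : Fin d → Fin n) (c : ℕ) (h : ℤ) :
    wtProj n k h (mon a b * GLn.Dinv ^ c) =
      if (d : ℤ) = h + n * c then mon a b * GLn.Dinv ^ c else 0 := by
  rw [← cf_basisT a b, wtProj_cf, op_basisT, Finset.sum_eq_single b]
  · have : scalarCoef n k h (mon b b * GLn.Dinv ^ c) = if (d : ℤ) = h + n * c then 1 else 0 := by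
      change coefT k h (GLn.diag n k (fun _ => 1) (mon b b * GLn.Dinv ^ c)) = _
      rw [diag_mon, if_pos rfl, coefT_T]
      exact if_congr sub_eq_iff_eq_add rfl rfl
    rw [this]
    split_ifs <;> simp
  · intro l _ hl
    have : scalarCoef n k h (mon l b * GLn.Dinv ^ c) = 0 := by
      change coefT k h (GLn.diag n k (fun _ => 1) (mon l b * GLn.Dinv ^ c)) = _
      rw [diag_mon, if_neg hl, map_zero]
    rw [this, zero_smul]
  · simp

/-- Coefficients of weight `h` with denominator `det ^ c`. -/
def U (h : ℤ) (c : ℕ) : Submodule k (GLn n k) :=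
  Submodule.span k {x | ∃ (d : ℕ) (a b : Fin d → Fin n), (d : ℤ) = h + n * c ∧ x = mon a b * GLn.Dinv ^ c}

theorem U_le_succ (h : ℤ) (c : ℕ) : U n k h c ≤ U n k h (c + 1) := by
  rw [U, Submodule.span_le]
  rintro _ ⟨d, a, b, hd, rfl⟩
  have e : (mon a b * GLn.Dinv ^ c : GLn n k) = mon a b * GLn.det * GLn.Dinv ^ (c + 1) := by
    rw [pow_succ', mul_assoc, ← mul_assoc GLn.det, GLn.det_mul_Dinv, one_mul]
  rw [e, det_eq_sum_mon, Finset.mul_sum, Finset.sum_mul]
  refine Submodule.sum_mem _ fun σ _ => ?_
  rw [mul_smul_comm, smul_mul_assoc]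
  refine Submodule.smul_mem _ _ (Submodule.subset_span
    ⟨d + n, Fin.append a σ, Fin.append b id, by push_cast; linarith, by rw [mon_append]⟩)

theorem U_mono (h : ℤ) : Monotone (U n k h) := monotone_nat_of_le_succ (U_le_succ n k h)

theorem exists_mem_U (h : ℤ) (x : GLn n k) : ∃ c, wtProj n k h x ∈ U n k h c := by
  have hle : Submodule.span k (monSet n k) ≤ (⨆ c, U n k h c).comap (wtProj n k h) := by
    rw [Submodule.span_le]
    rintro _ ⟨d, c, a, b, rfl⟩
    rw [SetLike.mem_coe, Submodule.mem_comap]
    rw [wtProj_mon]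
    split_ifs with hd
    · exact Submodule.mem_iSup_of_mem c (Submodule.subset_span ⟨d, a, b, hd, rfl⟩)
    · exact Submodule.zero_mem _
  exact (Submodule.mem_iSup_of_directed _ (U_mono n k h).directed_le).1
    (hle (span_monSet (n := n) (k := k) ▸ Submodule.mem_top))

/-- Finite sums of copies of a twisted tensor power. -/
instance instComodPiT (d c b : ℕ) : HopfRep.Comod k (GLn n k) (Fin b → T n k d c) :=
  ComodTens.Comod.twist
    (V := Fin b → TensorPower k d (Fin n → k))
    (ComodTens.Comod.pi fun _ : Fin b => ComodTens.Comod.tpow (stdG n k) d)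
    ((GLn.Dinv : GLn n k) ^ c) (IsGroupLikeElem.pow ⟨GLn.counit_Dinv, GLn.comul_Dinv⟩)

theorem isComodHom_proj (d c b : ℕ) (i : Fin b) :
    Hoch.IsComodHom (GLn n k) (LinearMap.proj i : (Fin b → T n k d c) →ₗ[k] T n k d c) := by
  refine LinearMap.ext fun f => ?_
  have key : (ComodTens.Comod.tpow (stdG n k) d).coact (f i) =
      (LinearMap.proj i : (Fin b → TensorPower k d (Fin n → k)) →ₗ[k] TensorPower k d (Fin n → k)).rTensor
        (GLn n k) ((ComodTens.Comod.pi fun _ : Fin b => ComodTens.Comod.tpow (stdG n k) d).coact f) := by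
    rw [ComodTens.pi_coact, map_sum, Finset.sum_eq_single i]
    · rw [← LinearMap.rTensor_comp_apply, LinearMap.proj_comp_single_same, LinearMap.rTensor_id]
      rfl
    · intro j _ hj
      rw [← LinearMap.rTensor_comp_apply, LinearMap.proj_comp_single_ne k _ _ _ (Ne.symm hj)]
      simp
    · simp
  change (LinearMap.mulRight k ((GLn.Dinv : GLn n k) ^ c)).lTensor (TensorPower k d (Fin n → k))
      ((ComodTens.Comod.tpow (stdG n k) d).coact (f i)) =
    (LinearMap.proj i : (Fin b → TensorPower k d (Fin n → k)) →ₗ[k] TensorPower k d (Fin n → k)).rTensor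
      (GLn n k) ((LinearMap.mulRight k ((GLn.Dinv : GLn n k) ^ c)).lTensor _
        ((ComodTens.Comod.pi fun _ : Fin b => ComodTens.Comod.tpow (stdG n k) d).coact f))
  rw [key, ComodTens.lTensor_rTensor_comm]

variable [CharZero k]

/-- A comodule of weight `h` embeds as a direct summand of copies of one twisted tensor power. -/
theorem exists_retract {V : Type v} [AddCommGroup V] [Module k V] [Module.Finite k V]
    [HopfRep.Comod k (GLn n k) V] (hn : 0 < n) (h : ℤ)
    (hV : ∀ x : V, op (scalarCoef n k h) x = x) :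
    ∃ (a b c : ℕ), 0 < c ∧ ∃ (i : V →ₗ[k] (Fin b → T n k a c)) (p : (Fin b → T n k a c) →ₗ[k] V),
      p ∘ₗ i = LinearMap.id ∧ Hoch.IsComodHom (GLn n k) i ∧ Hoch.IsComodHom (GLn n k) p := by
  classical
  let R := WithConv (GLn n k →ₗ[k] k)
  let bV := Module.finBasis k V
  have hx : ∀ (j i : Fin (Module.finrank k V)), ∃ c, cf (A := GLn n k) (bV.coord j) (bV i) ∈ U n k h c :=
    fun j i => by
      obtain ⟨c, hc⟩ := exists_mem_U n k h (cf (A := GLn n k) (bV.coord j) (bV i))
      rw [wtProj_cf, hV] at hc
      exact ⟨c, hc⟩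
  choose cc hcc using hx
  let c := 1 + h.natAbs + Finset.univ.sup fun p : Fin (Module.finrank k V) × Fin (Module.finrank k V) => cc p.1 p.2
  have hh : -h ≤ (n : ℤ) * c := by
    have h1 : -h ≤ (c : ℤ) := by
      have : h.natAbs ≤ c := by omega
      omega
    have h2 : (c : ℤ) ≤ (n : ℤ) * c := le_mul_of_one_le_left (by omega) (by omega)
    omega
  let a := (h + n * c).toNat
  have ha : (a : ℤ) = h + n * c := Int.toNat_of_nonneg (by omega)
  let K := Fintype.card (Fin a → Fin n)
  let el : Fin K ≃ (Fin a → Fin n) := (Fintype.equivFin _).symm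
  let G : (Fin K → T n k a c) →ₗ[k] GLn n k :=
    ∑ m, cf (A := GLn n k) ((basisT n k a c).coord (el m)) ∘ₗ LinearMap.proj m
  have hG : Hoch.IsComodHom (GLn n k) G := by
    rw [isComodHom_iff]
    intro φ x
    simp only [G, LinearMap.sum_apply, map_sum, LinearMap.comp_apply]
    refine Finset.sum_congr rfl fun m _ => ?_
    rw [isComodHom_op (isComodHom_proj n k a c K m), isComodHom_op (isComodHom_cf _)]
  have hUG : U n k h c ≤ LinearMap.range G := by
    rw [U, Submodule.span_le]
    rintro _ ⟨d, s, t, hd, rfl⟩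
    obtain rfl : d = a := by omega
    refine ⟨Pi.single (el.symm s) (basisT n k a c t), ?_⟩
    simp only [G, LinearMap.sum_apply, LinearMap.comp_apply, LinearMap.proj_apply]
    rw [Finset.sum_eq_single (el.symm s), Pi.single_eq_same, Equiv.apply_symm_apply, cf_basisT]
    · intro j _ hj; rw [Pi.single_eq_of_ne hj, map_zero]
    · simp
  have hrange : ∀ j x, cf (A := GLn n k) (bV.coord j) x ∈ LinearMap.range G := by
    intro j x
    have : (⊤ : Submodule k V) ≤ (LinearMap.range G).comap (cf (A := GLn n k) (bV.coord j)) := by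
      rw [← bV.span_eq, Submodule.span_le]
      rintro _ ⟨i, rfl⟩
      refine hUG (U_mono n k h ?_ (hcc j i))
      have := Finset.le_sup (f := fun p : Fin (Module.finrank k V) × Fin (Module.finrank k V) => cc p.1 p.2)
        (Finset.mem_univ (j, i))
      simp only at this
      omega
    exact this Submodule.mem_top
  have hss : ∀ b, IsSemisimpleModule R (RatMod k (GLn n k) (Fin b → T n k a c)) := fun b =>
    isSemisimpleComod_iff.1 (isSemisimpleComod n k)
  let G' := toRatHom G hG
  have hlift : ∀ j, ∃ l : RatMod k (GLn n k) V →ₗ[R] RatMod k (GLn n k) (Fin K → T n k a c),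
      ∀ x, G' (l x) = toRatHom _ (isComodHom_cf (A := GLn n k) (bV.coord j)) x := by
    intro j
    have := hss K
    obtain ⟨l, hl⟩ := IsSemisimpleModule.lifting_property (R := R)
      (M := RatMod k (GLn n k) (Fin K → T n k a c)) (P := RatMod k (GLn n k) V) (N := LinearMap.range G')
      G'.rangeRestrict G'.surjective_rangeRestrict
      ((toRatHom _ (isComodHom_cf (A := GLn n k) (bV.coord j))).codRestrict (LinearMap.range G') fun x => by
        obtain ⟨y, hy⟩ := hrange j ((RatMod.equiv k (GLn n k) V).symm x)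
        exact ⟨RatMod.equiv k (GLn n k) (Fin K → T n k a c) y,
          congrArg (RatMod.equiv k (GLn n k) (GLn n k)) hy⟩)
    exact ⟨l, fun x => congrArg Subtype.val (LinearMap.congr_fun hl x)⟩
  choose l hl using hlift
  let e := finProdFinEquiv (m := Module.finrank k V) (n := K)
  let i : V →ₗ[k] (Fin (Module.finrank k V * K) → T n k a c) :=
    LinearMap.pi fun m => LinearMap.proj (e.symm m).2 ∘ₗ ofRatHom (l (e.symm m).1)
  have hi : Hoch.IsComodHom (GLn n k) i := by
    rw [isComodHom_iff]
    intro φ x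
    funext m
    have h1 := isComodHom_op (isComodHom_proj n k a c (Module.finrank k V * K) m) φ (i x)
    simp only [LinearMap.proj_apply] at h1
    rw [h1]
    simp only [i, LinearMap.pi_apply, LinearMap.comp_apply]
    rw [isComodHom_op (isComodHom_ofRatHom _), isComodHom_op (isComodHom_proj n k a c K _)]
  have hinj : Function.Injective i := by
    rw [injective_iff_map_eq_zero]
    intro x hx
    refine bV.ext_elem fun j => ?_
    have h0 : ofRatHom (l j) x = 0 := funext fun m => by
      have := congr_fun hx (e (j, m))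
      simpa [i] using this
    have h1 : cf (A := GLn n k) (bV.coord j) x = 0 := by
      have := (hl j (RatMod.equiv k (GLn n k) V x)).symm
      change cf (A := GLn n k) (bV.coord j) x = G (ofRatHom (l j) x) at this
      rw [this, h0, map_zero]
    have h2 := congrArg (CoalgebraStruct.counit (R := k) (A := GLn n k)) h1
    rw [apply_cf, op_counit, map_zero] at h2
    simpa using h2
  have := hss (Module.finrank k V * K)
  obtain ⟨p, hp⟩ := IsSemisimpleModule.extension_property (R := R) (toRatHom (A := GLn n k) i hi) hinj LinearMap.id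
  exact ⟨a, Module.finrank k V * K, c, by omega, i, ofRatHom p,
    LinearMap.ext fun x => LinearMap.congr_fun hp x, hi, isComodHom_ofRatHom p⟩

end Groth.GLRep
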